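import Mathlib.RingTheory.PicardGroup

/-! # Invertibility from local generators -/

namespace Groth.L14.OmegaInv

open TensorProduct

universe u v

/-- A module which near every maximal ideal is generated by one element without torsion is invertible. -/
theorem invertible_of_local {B : Type u} [CommRing B] {M : Type v} [AddCommGroup M] [Module B M]
    (H : ∀ Q : Ideal B, Q.IsMaximal → ∃ (g : B) (θ : M), g ∉ Q ∧
      (∀ l : M, ∃ c : B, g • l = c • θ) ∧ ∀ d : B, d • θ = 0 → g * d = 0) :
    Module.Invertible B M := by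
  classical
  have span : ∀ T : Ideal B,
      (∀ (g : B) (θ : M), (∀ l : M, ∃ c : B, g • l = c • θ) →
        (∀ d : B, d • θ = 0 → g * d = 0) → g * g ∈ T) → T = ⊤ := by
    intro T hT
    by_contra hne
    obtain ⟨Q, hQ, hle⟩ := Ideal.exists_le_maximal T hne
    obtain ⟨g, θ, hg, h1, h2⟩ := H Q hQ
    exact hg ((hQ.isPrime.mem_or_mem (hle (hT g θ h1 h2))).elim id id)
  refine ⟨⟨?_, ?_⟩⟩
  · rw [injective_iff_map_eq_zero]
    intro z hz
    have hT := span ((⊥ : Submodule B (Module.Dual B M ⊗[B] M)).colon {z}) fun g θ h1 h2 => by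
      have step : ∀ z : Module.Dual B M ⊗[B] M, ∃ ψ : Module.Dual B M,
          g • z = ψ ⊗ₜ[B] θ ∧ ψ θ = g * contractLeft B M z := by
        intro z
        induction z using TensorProduct.induction_on with
        | zero => exact ⟨0, by simp, by simp⟩
        | add a b ha hb =>
          obtain ⟨ψ, hψ, hψ'⟩ := ha
          obtain ⟨χ, hχ, hχ'⟩ := hb
          exact ⟨ψ + χ, by rw [smul_add, hψ, hχ, TensorProduct.add_tmul],
            by rw [LinearMap.add_apply, hψ', hχ', map_add, mul_add]⟩
        | tmul ψ l =>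
          obtain ⟨c, hc⟩ := h1 l
          refine ⟨c • ψ, ?_, ?_⟩
          · rw [← TensorProduct.tmul_smul, hc, TensorProduct.smul_tmul]
          · rw [LinearMap.smul_apply, ← map_smul, ← hc, map_smul, contractLeft_apply, smul_eq_mul]
      obtain ⟨ψ, hψ, hψ'⟩ := step z
      rw [hz, mul_zero] at hψ'
      have hψ0 : g • ψ = 0 := LinearMap.ext fun l => by
        obtain ⟨c, hc⟩ := h1 l
        rw [LinearMap.smul_apply, ← map_smul, hc, map_smul, hψ', smul_zero, LinearMap.zero_apply]
      rw [Submodule.mem_colon_singleton, Submodule.mem_bot, mul_smul, hψ, TensorProduct.smul_tmul', hψ0,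
        TensorProduct.zero_tmul]
    have h1 : (1 : B) ∈ (⊥ : Submodule B (Module.Dual B M ⊗[B] M)).colon {z} := hT ▸ Submodule.mem_top
    rwa [Submodule.mem_colon_singleton, Submodule.mem_bot, one_smul] at h1
  · rw [← LinearMap.range_eq_top]
    refine span _ fun g θ h1 h2 => ?_
    choose c hc using h1
    have hu : ∀ d d' : B, d • θ = d' • θ → g * d = g * d' := fun d d' h => by
      rw [← sub_eq_zero, ← mul_sub]
      exact h2 _ (by rw [sub_smul, h, sub_self])
    let Φ : M →ₗ[B] B :=
      { toFun := fun l => g * c l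
        map_add' := fun l l' => by
          rw [← mul_add]
          exact hu _ _ (by rw [← hc, smul_add, hc, hc, add_smul])
        map_smul' := fun d l => by
          rw [RingHom.id_apply, smul_eq_mul, mul_left_comm]
          exact hu _ _ (by rw [← hc, smul_comm, hc, mul_smul]) }
    refine ⟨Φ ⊗ₜ[B] θ, ?_⟩
    rw [contractLeft_apply]
    exact (hu _ _ (hc θ)).symm

end Groth.L14.OmegaInv
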