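import Groth.Agent.L14.OmegaInv.Lift
import Groth.Agent.L29.QFBC

/-! # Base change of the dualizing module of a flat quasi-finite map -/

namespace Groth.L14.OmegaInv

open TensorProduct Groth.L29.QF Groth.L01

set_option linter.style.haveILetI false
set_option backward.isDefEq.respectTransparency.types false

universe u

/-- A map which near the image of `Spec B₁` is bijective becomes bijective over `B₁`. -/
theorem bijective_baseChange_of_local {B' R B₁ M N : Type u} [CommRing B'] [CommRing R] [CommRing B₁]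
    [Algebra B' R] [Algebra R B₁] [Algebra B' B₁] [IsScalarTower B' R B₁]
    [AddCommGroup M] [Module R M] [AddCommGroup N] [Module R N] [Module.Finite R M] [Module.Finite R N]
    [IsNoetherianRing R] (f : M →ₗ[R] N)
    (hker : ∀ Q : Ideal B₁, Q.IsMaximal → ∀ z, f z = 0 → ∃ u : B', algebraMap B' B₁ u ∉ Q ∧ algebraMap B' R u • z = 0)
    (hsurj : ∀ Q : Ideal B₁, Q.IsMaximal → ∀ y : N, ∃ u : B', algebraMap B' B₁ u ∉ Q ∧
      algebraMap B' R u • y ∈ LinearMap.range f) :
    Function.Bijective (f.baseChange B₁) := by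
  classical
  have key : ∀ Q : Ideal B₁, Q.IsMaximal → ∃ (u : B') (g : B₁ ⊗[R] N →ₗ[B₁] B₁ ⊗[R] M),
      algebraMap B' B₁ u ∉ Q ∧ (∀ y, f.baseChange B₁ (g y) = algebraMap B' B₁ (u * u) • y) ∧
      ∀ x, g (f.baseChange B₁ x) = algebraMap B' B₁ (u * u) • x := by
    intro Q hQ
    obtain ⟨s, hs⟩ := (IsNoetherian.noetherian (LinearMap.ker f) : (LinearMap.ker f).FG)
    obtain ⟨t, ht⟩ := (Module.Finite.fg_top : (⊤ : Submodule R N).FG)
    choose U hU hUz using fun z : s => hker Q hQ z (LinearMap.mem_ker.mp (hs ▸ Submodule.subset_span z.2))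
    choose V hV hVy using fun y : t => hsurj Q hQ y
    let u := (∏ z : s, U z) * ∏ y : t, V y
    have hu : algebraMap B' B₁ u ∉ Q := by
      simp only [u, map_mul, map_prod]
      intro h
      rcases hQ.isPrime.mem_or_mem h with h | h
      · obtain ⟨z, -, hz⟩ := Ideal.IsPrime.prod_mem_iff.mp h
        exact hU z hz
      · obtain ⟨z, -, hz⟩ := Ideal.IsPrime.prod_mem_iff.mp h
        exact hV z hz
    have hk : ∀ z, f z = 0 → algebraMap B' R u • z = 0 := by
      intro z hz
      have hz' : z ∈ Submodule.span R (s : Set M) := hs ▸ LinearMap.mem_ker.mpr hz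
      clear hz
      induction hz' using Submodule.span_induction with
      | mem z hz =>
        obtain ⟨w, hw⟩ : U ⟨z, hz⟩ ∣ u :=
          (Finset.dvd_prod_of_mem U (Finset.mem_univ _)).trans (dvd_mul_right _ _)
        rw [hw, map_mul, mul_comm, mul_smul, hUz ⟨z, hz⟩, smul_zero]
      | zero => exact smul_zero _
      | add a b _ _ ha hb => rw [smul_add, ha, hb, add_zero]
      | smul a b _ hb => rw [smul_comm, hb, smul_zero]
    have hr : ∀ y, algebraMap B' R u • y ∈ LinearMap.range f := by
      intro y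
      have hy' : y ∈ Submodule.span R (t : Set N) := ht ▸ Submodule.mem_top
      induction hy' using Submodule.span_induction with
      | mem y hy =>
        obtain ⟨w, hw⟩ : V ⟨y, hy⟩ ∣ u :=
          (Finset.dvd_prod_of_mem V (Finset.mem_univ _)).trans (dvd_mul_left _ _)
        rw [hw, map_mul, mul_comm, mul_smul]
        exact Submodule.smul_mem _ _ (hVy ⟨y, hy⟩)
      | zero => rw [smul_zero]; exact zero_mem _
      | add a b _ _ ha hb => rw [smul_add]; exact add_mem ha hb
      | smul a b _ hb => rw [smul_comm]; exact Submodule.smul_mem _ _ hb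
    choose pre hpre using hr
    have hwd : ∀ x x', f x = f x' → algebraMap B' R u • x = algebraMap B' R u • x' := fun x x' h => by
      rw [← sub_eq_zero, ← smul_sub]
      exact hk _ (by rw [map_sub, h, sub_self])
    let g₀ : N →ₗ[R] M :=
      { toFun := fun y => algebraMap B' R u • pre y
        map_add' := fun a b => by
          rw [← smul_add]
          exact hwd _ _ (by rw [map_add, hpre, hpre, hpre, smul_add])
        map_smul' := fun c a => by
          rw [RingHom.id_apply, smul_comm c]
          exact hwd _ _ (by rw [map_smul, hpre, hpre, smul_comm]) }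
    have hg1 : f ∘ₗ g₀ = algebraMap B' R (u * u) • LinearMap.id := LinearMap.ext fun y => by
      show f (algebraMap B' R u • pre y) = algebraMap B' R (u * u) • y
      rw [map_smul, hpre, ← mul_smul, ← map_mul]
    have hg2 : g₀ ∘ₗ f = algebraMap B' R (u * u) • LinearMap.id := LinearMap.ext fun x => by
      show algebraMap B' R u • pre (f x) = algebraMap B' R (u * u) • x
      rw [map_mul (algebraMap B' R) u u, mul_smul]
      exact hwd (pre (f x)) (algebraMap B' R u • x) (by rw [hpre, map_smul])
    refine ⟨u, g₀.baseChange B₁, hu, fun y => ?_, fun x => ?_⟩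
    · rw [← LinearMap.comp_apply, ← LinearMap.baseChange_comp, hg1, LinearMap.baseChange_smul,
        LinearMap.baseChange_id, LinearMap.smul_apply, LinearMap.id_apply,
        ← algebraMap_smul B₁ (algebraMap B' R (u * u)), ← IsScalarTower.algebraMap_apply]
    · rw [← LinearMap.comp_apply, ← LinearMap.baseChange_comp, hg2, LinearMap.baseChange_smul,
        LinearMap.baseChange_id, LinearMap.smul_apply, LinearMap.id_apply,
        ← algebraMap_smul B₁ (algebraMap B' R (u * u)), ← IsScalarTower.algebraMap_apply]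
  refine ⟨?_, fun y => ?_⟩
  · rw [injective_iff_map_eq_zero]
    intro x hx
    let J : Ideal B₁ := LinearMap.ker (LinearMap.toSpanSingleton B₁ _ x)
    have hJ : J = ⊤ := by
      by_contra hne
      obtain ⟨Q, hQ, hle⟩ := Ideal.exists_le_maximal J hne
      obtain ⟨u, g, hu, -, hg⟩ := key Q hQ
      have : algebraMap B' B₁ (u * u) ∈ J := by
        show algebraMap B' B₁ (u * u) • x = 0
        rw [← hg, hx, map_zero]
      rw [map_mul] at this
      exact hu ((hQ.isPrime.mem_or_mem (hle this)).elim id id)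
    have h1 : (1 : B₁) • x = 0 := (hJ ▸ Submodule.mem_top : (1 : B₁) ∈ J)
    rwa [one_smul] at h1
  · let J : Ideal B₁ := (LinearMap.range (f.baseChange B₁)).comap (LinearMap.toSpanSingleton B₁ _ y)
    have hJ : J = ⊤ := by
      by_contra hne
      obtain ⟨Q, hQ, hle⟩ := Ideal.exists_le_maximal J hne
      obtain ⟨u, g, hu, hg, -⟩ := key Q hQ
      have : algebraMap B' B₁ (u * u) ∈ J := ⟨g y, hg y⟩
      rw [map_mul] at this
      exact hu ((hQ.isPrime.mem_or_mem (hle this)).elim id id)
    have h1 : (1 : B₁) • y ∈ LinearMap.range (f.baseChange B₁) := (hJ ▸ Submodule.mem_top : (1 : B₁) ∈ J)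
    rwa [one_smul] at h1

variable {A B' A₁ B'₁ : Type u} [CommRing A] [IsNoetherianRing A] [CommRing B'] [Algebra A B'] [Module.Finite A B']
  [CommRing A₁] [CommRing B'₁] [Algebra A A₁] [Algebra B' B'₁] [Algebra A₁ B'₁] [Algebra A B'₁]
  [IsScalarTower A A₁ B'₁] [IsScalarTower A B' B'₁] (h : Algebra.IsPushout A A₁ B' B'₁)
  (q : Ideal B') [q.IsPrime] (hflat : Module.Flat A (Localization.AtPrime q))

/-- Elements of the base changed module. -/
theorem exists_sum (z : B'₁ ⊗[B'] Disc.Omega A B') (h : Algebra.IsPushout A A₁ B' B'₁) :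
    ∃ (m : ℕ) (a : Fin m → A₁) (l : Fin m → Disc.Omega A B'), z = ∑ j, algebraMap A₁ B'₁ (a j) ⊗ₜ[B'] l j := by
  classical
  let P : B'₁ ⊗[B'] Disc.Omega A B' → Prop := fun z =>
    ∃ (m : ℕ) (a : Fin m → A₁) (l : Fin m → Disc.Omega A B'), z = ∑ j, algebraMap A₁ B'₁ (a j) ⊗ₜ[B'] l j
  have h0 : P 0 := ⟨0, Fin.elim0, Fin.elim0, by simp⟩
  have hadd : ∀ x y, P x → P y → P (x + y) := by
    rintro _ _ ⟨m, a, l, rfl⟩ ⟨m', a', l', rfl⟩
    exact ⟨m + m', Fin.append a a', Fin.append l l', by simp [Fin.sum_univ_add]⟩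
  show P z
  induction z using TensorProduct.induction_on with
  | zero => exact h0
  | add x y hx hy => exact hadd _ _ hx hy
  | tmul x φ =>
    induction x using h.out.inductionOn with
    | zero => rw [TensorProduct.zero_tmul]; exact h0
    | tmul b =>
      refine ⟨1, fun _ => 1, fun _ => b • φ, ?_⟩
      rw [Fin.sum_univ_one, map_one, ← TensorProduct.smul_tmul, Algebra.smul_def, mul_one]
      rfl
    | smul c x hx =>
      obtain ⟨m, a, l, hl⟩ := hx
      refine ⟨m, fun j => c * a j, l, ?_⟩
      rw [Algebra.smul_def, ← smul_eq_mul, ← TensorProduct.smul_tmul', hl, Finset.smul_sum]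
      exact Finset.sum_congr rfl fun j _ => by rw [TensorProduct.smul_tmul', smul_eq_mul, map_mul]
    | add x y hx hy => rw [TensorProduct.add_tmul]; exact hadd _ _ hx hy

omit [IsNoetherianRing A] [Module.Finite A B'] in
theorem bcLin_sum_apply {m : ℕ} (a : Fin m → A₁) (l : Fin m → Disc.Omega A B') (x : B') :
    (bcLin h (∑ j, algebraMap A₁ B'₁ (a j) ⊗ₜ[B'] l j)).toLinearMap (algebraMap B' B'₁ x) =
      ∑ j, a j * algebraMap A A₁ ((l j).toLinearMap x) := by
  let ev : Disc.Omega A₁ B'₁ →+ (B'₁ →ₗ[A₁] A₁) :=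
    { toFun := fun l => l.toLinearMap, map_zero' := rfl, map_add' := fun _ _ => rfl }
  show ev (bcLin h (∑ j, algebraMap A₁ B'₁ (a j) ⊗ₜ[B'] l j)) (algebraMap B' B'₁ x) = _
  rw [map_sum (bcLin h), map_sum ev, LinearMap.sum_apply]
  refine Finset.sum_congr rfl fun j _ => ?_
  rw [bcLin_tmul]
  show (algebraMap A₁ B'₁ (a j) • QFDual.bcFin h (l j)).toLinearMap (algebraMap B' B'₁ x) = _
  rw [Disc.Omega.smul_toLinearMap_apply, ← Algebra.smul_def, map_smul, QFDual.bcFin_apply_algebraMap, smul_eq_mul]

include hflat in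
theorem exists_smul_bcLin_ker (z : B'₁ ⊗[B'] Disc.Omega A B') (hz : bcLin h z = 0) :
    ∃ u ∉ q, algebraMap B' B'₁ u • z = 0 := by
  classical
  obtain ⟨m, a, l, rfl⟩ := exists_sum z h
  let π0 : (Fin m → A) →ₗ[A] A₁ := Fintype.linearCombination A a
  let ψ : B' →ₗ[A] LinearMap.ker π0 := LinearMap.codRestrict _ (LinearMap.pi fun j => (l j).toLinearMap) fun x => by
    rw [LinearMap.mem_ker, Fintype.linearCombination_apply]
    have := bcLin_sum_apply h a l x
    rw [hz, Disc.Omega.zero_toLinearMap, LinearMap.zero_apply] at this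
    rw [this]
    exact Finset.sum_congr rfl fun j _ => by rw [Algebra.smul_def, mul_comm]; rfl
  obtain ⟨r, p1, hp1⟩ := Module.Finite.exists_fin' A (LinearMap.ker π0)
  obtain ⟨s, hs, χ, hχ⟩ := exists_lift_mul q hflat p1 hp1 ψ
  let c : Fin r → Fin m → A := fun k j => (p1 (Pi.single k 1) : Fin m → A) j
  let χ' : Fin r → Disc.Omega A B' := fun k => ⟨(LinearMap.proj k).comp χ⟩
  have hl : ∀ j, s • l j = ∑ k, algebraMap A B' (c k j) • χ' k := by
    intro j
    let ev : Disc.Omega A B' →+ (B' →ₗ[A] A) :=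
      { toFun := fun l => l.toLinearMap, map_zero' := rfl, map_add' := fun _ _ => rfl }
    apply Disc.Omega.toLinearMap_injective
    refine LinearMap.ext fun x => ?_
    show _ = ev (∑ k, algebraMap A B' (c k j) • χ' k) x
    rw [map_sum, LinearMap.sum_apply, Disc.Omega.smul_toLinearMap_apply]
    have h1 : (l j).toLinearMap (s * x) = ((p1 (χ x) : LinearMap.ker π0) : Fin m → A) j := by rw [hχ]; rfl
    rw [h1]
    conv_lhs => rw [← (Pi.basisFun A (Fin r)).sum_repr (χ x)]
    simp only [map_sum, map_smul, Submodule.coe_sum, Submodule.coe_smul, Pi.basisFun_repr, Pi.basisFun_apply,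
      Finset.sum_apply, Pi.smul_apply, smul_eq_mul]
    refine Finset.sum_congr rfl fun k _ => ?_
    show _ = (algebraMap A B' (c k j) • χ' k).toLinearMap x
    rw [Disc.Omega.smul_toLinearMap_apply, ← Algebra.smul_def, map_smul, smul_eq_mul]
    exact mul_comm _ _
  refine ⟨s, hs, ?_⟩
  rw [algebraMap_smul, Finset.smul_sum]
  simp only [← TensorProduct.tmul_smul, hl, TensorProduct.tmul_sum]
  rw [Finset.sum_comm]
  refine Finset.sum_eq_zero fun k _ => ?_
  simp only [TensorProduct.tmul_smul, TensorProduct.smul_tmul', Algebra.smul_def, ← TensorProduct.sum_tmul,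
    ← IsScalarTower.algebraMap_apply A B' B'₁, IsScalarTower.algebraMap_apply A A₁ B'₁, ← map_mul, ← map_sum]
  have hc0 : ∑ j, algebraMap A A₁ (c k j) * a j = 0 := by
    have := (p1 (Pi.single k 1)).2
    rw [LinearMap.mem_ker, Fintype.linearCombination_apply] at this
    refine Eq.trans (Finset.sum_congr rfl fun j _ => ?_) this
    rw [Algebra.smul_def]
  rw [hc0, map_zero, TensorProduct.zero_tmul]

include hflat in
theorem exists_smul_mem_range_bcLin (y : Disc.Omega A₁ B'₁) :
    ∃ u ∉ q, algebraMap B' B'₁ u • y ∈ LinearMap.range (bcLin h) := by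
  classical
  let f : B' →ₗ[A] A₁ := (y.toLinearMap.restrictScalars A).comp (IsScalarTower.toAlgHom A B' B'₁).toLinearMap
  let N := LinearMap.range f
  haveI : Module.Finite A N := Module.Finite.range f
  obtain ⟨r, π0, hπ0⟩ := Module.Finite.exists_fin' A N
  obtain ⟨s, hs, χ, hχ⟩ := exists_lift_mul q hflat π0 hπ0 f.rangeRestrict
  let a : Fin r → A₁ := fun k => (π0 (Pi.single k 1) : A₁)
  let χ' : Fin r → Disc.Omega A B' := fun k => ⟨(LinearMap.proj k).comp χ⟩
  refine ⟨s, hs, ∑ k, algebraMap A₁ B'₁ (a k) ⊗ₜ[B'] χ' k, ?_⟩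
  apply Disc.Omega.toLinearMap_injective
  refine h.out.algHom_ext _ _ fun x => ?_
  show (bcLin h _).toLinearMap (algebraMap B' B'₁ x) =
    (algebraMap B' B'₁ s • y).toLinearMap (algebraMap B' B'₁ x)
  rw [bcLin_sum_apply, Disc.Omega.smul_toLinearMap_apply, ← map_mul]
  have h1 : y.toLinearMap (algebraMap B' B'₁ (s * x)) = ((π0 (χ x) : N) : A₁) :=
    (congrArg Subtype.val (hχ x)).symm
  rw [h1]
  conv_rhs => rw [← (Pi.basisFun A (Fin r)).sum_repr (χ x)]
  simp only [map_sum, map_smul, Submodule.coe_sum, Submodule.coe_smul, Pi.basisFun_repr, Pi.basisFun_apply]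
  refine Finset.sum_congr rfl fun k _ => ?_
  rw [Algebra.smul_def]
  exact mul_comm _ _

/-- Base change of the dualizing module of a flat quasi-finite map. -/
theorem omegaBC_bijective_of_flat [IsNoetherianRing A₁] {B B₁ : Type u} [CommRing B] [CommRing B₁]
    [Algebra A B] [Algebra B' B] [IsScalarTower A B' B] [Module.Flat A B]
    (hopen : AlgebraicGeometry.IsOpenImmersion
      (AlgebraicGeometry.Spec.map (CommRingCat.ofHom (algebraMap B' B))))
    [Algebra B'₁ B₁] [Algebra B' B₁] [IsScalarTower B' B'₁ B₁] [Algebra B B₁] [IsScalarTower B' B B₁] :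
    Function.Bijective (QFDual.omegaBC (B₁ := B₁) h) := by
  haveI : IsNoetherianRing B' := IsNoetherianRing.of_finite A B'
  haveI : Module.Finite A₁ B'₁ := Module.Finite.equiv h.out.equiv
  haveI : IsNoetherianRing B'₁ := IsNoetherianRing.of_finite A₁ B'₁
  haveI : Module.Finite B' (Disc.Omega A B') := by
    letI := omegaModule (A := A) (B' := B')
    haveI : Module.Finite A (Disc.Omega A B') :=
      Module.Finite.of_injective (omegaEquiv (A := A) (B' := B')).toLinearMap omegaEquiv.injective
    exact Module.Finite.of_restrictScalars_finite A B' _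
  haveI : Module.Finite B'₁ (Disc.Omega A₁ B'₁) := by
    letI := omegaModule (A := A₁) (B' := B'₁)
    haveI : Module.Finite A₁ (Disc.Omega A₁ B'₁) :=
      Module.Finite.of_injective (omegaEquiv (A := A₁) (B' := B'₁)).toLinearMap omegaEquiv.injective
    exact Module.Finite.of_restrictScalars_finite A₁ B'₁ _
  have hflat' : ∀ (Q : Ideal B₁) [Q.IsPrime],
      Module.Flat A (Localization.AtPrime ((Q.comap (algebraMap B B₁)).comap (algebraMap B' B))) := by
    intro Q hQ
    let Q' := Q.comap (algebraMap B B₁)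
    let L := Localization.AtPrime Q'
    haveI : IsLocalization.AtPrime L (Q'.comap (algebraMap B' B)) :=
      Disc.OmegaFlat.isLocalization_atPrime hopen Q' L
    haveI : Module.Flat A L := Module.Flat.trans A B L
    exact Module.Flat.of_linearEquiv ((IsLocalization.algEquiv (Q'.comap (algebraMap B' B)).primeCompl
      (Localization.AtPrime (Q'.comap (algebraMap B' B))) L).restrictScalars A).toLinearEquiv
  have hbij : Function.Bijective ((bcLin h).baseChange B₁) := by
    refine bijective_baseChange_of_local (B' := B') (bcLin h) (fun Q hQ z hz => ?_) (fun Q hQ y => ?_) <;>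
      haveI := hQ.isPrime
    · obtain ⟨u, hu, hz⟩ := exists_smul_bcLin_ker h ((Q.comap (algebraMap B B₁)).comap (algebraMap B' B)) (hflat' Q) z hz
      exact ⟨u, fun h' => hu (show algebraMap B B₁ (algebraMap B' B u) ∈ Q by rwa [← IsScalarTower.algebraMap_apply B' B B₁]), hz⟩
    · obtain ⟨u, hu, hy⟩ := exists_smul_mem_range_bcLin h ((Q.comap (algebraMap B B₁)).comap (algebraMap B' B)) (hflat' Q) y
      exact ⟨u, fun h' => hu (show algebraMap B B₁ (algebraMap B' B u) ∈ Q by rwa [← IsScalarTower.algebraMap_apply B' B B₁]), hy⟩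
  let e : B₁ ⊗[B'₁] (B'₁ ⊗[B'] Disc.Omega A B') ≃ₗ[B₁] QFDual.omega A B' B₁ :=
    AlgebraTensorModule.cancelBaseChange B' B'₁ B₁ B₁ (Disc.Omega A B')
  have heq : ∀ z, QFDual.omegaBC (B₁ := B₁) h z = (bcLin h).baseChange B₁ (e.symm z) := by
    intro z
    induction z using TensorProduct.induction_on with
    | zero => simp
    | add a b ha hb => simp [map_add, ha, hb]
    | tmul b φ =>
      simp only [e, AlgebraTensorModule.cancelBaseChange_symm_tmul, QFDual.omegaBC_tmul,
        LinearMap.baseChange_tmul, bcLin_tmul, one_smul]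
  rw [funext heq]
  exact hbij.comp e.symm.bijective

end Groth.L14.OmegaInv
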