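import Groth.Agent.L14.OmegaInv.Main
import Groth.Agent.L14.OmegaInv.BaseChange

/-! # Invertibility of the dualizing module is fibrewise -/

namespace Groth.L14.OmegaInv

open TensorProduct AlgebraicGeometry Groth.L01

set_option linter.style.haveILetI false
set_option maxSynthPendingDepth 3
set_option backward.isDefEq.respectTransparency.types false

universe u

/-- A finite module with free rank one localizations over a Noetherian ring is invertible. -/
theorem invertible_of_localized {B : Type u} [CommRing B] [IsNoetherianRing B] {M : Type u} [AddCommGroup M]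
    [Module B M] [Module.Finite B M]
    (H : ∀ Q : Ideal B, ∀ _ : Q.IsMaximal, ∃ (L N : Type u) (_ : CommRing L) (_ : Algebra B L) (_ : AddCommGroup N)
      (_ : Module B N) (_ : Module L N) (_ : IsScalarTower B L N) (f : M →ₗ[B] N) (θ : N),
      IsLocalization Q.primeCompl L ∧ IsLocalizedModule Q.primeCompl f ∧
      (∀ y : N, ∃ c : L, y = c • θ) ∧ ∀ x : L, x • θ = 0 → x = 0) :
    Module.Invertible B M := by
  classical
  refine invertible_of_local fun Q hQ => ?_
  obtain ⟨L, N, _, _, _, _, _, _, f, θ, hL, hf, hspan, hfree⟩ := H Q hQ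
  haveI := hL
  haveI := hf
  obtain ⟨⟨θ₀, s₀⟩, hθ₀⟩ := IsLocalizedModule.surj Q.primeCompl f θ
  have hs₀ : IsUnit (algebraMap B L s₀) := IsLocalization.map_units L s₀
  have hθeq : algebraMap B L s₀ • θ = f θ₀ := by
    rw [algebraMap_smul]; exact hθ₀
  obtain ⟨T, hT⟩ := (Module.Finite.fg_top : (⊤ : Submodule B M).FG)
  have hgen : ∀ m : M, ∃ u ∈ Q.primeCompl, u • m ∈ Submodule.span B {θ₀} := by
    intro m
    obtain ⟨c, hc⟩ := hspan (f m)
    obtain ⟨v, hv⟩ := hs₀.exists_left_inv
    obtain ⟨⟨b, s⟩, hbs⟩ := IsLocalization.surj Q.primeCompl (c * v)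
    have h1 : f ((s : B) • m - b • θ₀) = 0 := by
      rw [map_sub, map_smul, map_smul, sub_eq_zero, ← algebraMap_smul L b (f θ₀), ← hbs, hc, ← hθeq, smul_smul,
        ← algebraMap_smul L (s : B) (c • θ), smul_smul,
        show c * v * algebraMap B L s * algebraMap B L s₀ = algebraMap B L s * (c * (v * algebraMap B L s₀)) by ring,
        hv, mul_one]
    obtain ⟨t, ht⟩ := (IsLocalizedModule.eq_zero_iff Q.primeCompl f).mp h1
    refine ⟨t * s, Q.primeCompl.mul_mem t.2 s.2, ?_⟩
    rw [Submonoid.smul_def, smul_sub, sub_eq_zero] at ht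
    rw [mul_smul, ht, smul_smul]
    exact Submodule.smul_mem _ _ (Submodule.mem_span_singleton_self θ₀)
  choose U hU hUm using fun m : T => hgen m
  let Ann : Ideal B := LinearMap.ker (LinearMap.toSpanSingleton B M θ₀)
  obtain ⟨t, ht⟩ := (IsNoetherian.noetherian Ann : Ann.FG)
  have hkill : ∀ d : t, ∃ u ∈ Q.primeCompl, u * (d : B) = 0 := by
    intro d
    have hd : (d : B) • θ₀ = 0 := ht.le (Submodule.subset_span d.2)
    have h1 : algebraMap B L d * algebraMap B L s₀ = 0 := hfree _ (by
      rw [mul_smul, hθeq, algebraMap_smul, ← map_smul, hd, map_zero])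
    obtain ⟨u, hu⟩ := (IsLocalization.map_eq_zero_iff Q.primeCompl L _).mp (hs₀.mul_left_eq_zero.mp h1)
    exact ⟨u, u.2, hu⟩
  choose W hW hWd using hkill
  let u := ∏ m : T, U m
  let w := ∏ d : t, W d
  refine ⟨u * w, θ₀, fun h => ?_, fun l => ?_, fun d hd => ?_⟩
  · rcases hQ.isPrime.mem_or_mem h with h | h
    · obtain ⟨m, -, hm⟩ := Ideal.IsPrime.prod_mem_iff.mp h
      exact hU m hm
    · obtain ⟨m, -, hm⟩ := Ideal.IsPrime.prod_mem_iff.mp h
      exact hW m hm
  · have hl : l ∈ Submodule.span B (T : Set M) := hT.ge Submodule.mem_top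
    have hmem : (u * w) • l ∈ Submodule.span B {θ₀} := by
      rw [mul_comm, mul_smul]
      refine Submodule.smul_mem _ w ?_
      induction hl using Submodule.span_induction with
      | mem m hm =>
        obtain ⟨c, hc⟩ : U ⟨m, hm⟩ ∣ u := Finset.dvd_prod_of_mem U (Finset.mem_univ _)
        rw [hc, mul_comm, mul_smul]
        exact Submodule.smul_mem _ _ (hUm ⟨m, hm⟩)
      | zero => rw [smul_zero]; exact zero_mem _
      | add a b _ _ ha hb => rw [smul_add]; exact add_mem ha hb
      | smul a b _ hb => rw [smul_comm]; exact Submodule.smul_mem _ _ hb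
    obtain ⟨c, hc⟩ := Submodule.mem_span_singleton.mp hmem
    exact ⟨c, hc.symm⟩
  · have hd' : d ∈ Submodule.span B (t : Set B) := ht.ge hd
    rw [mul_assoc]
    suffices hz : w * d = 0 by rw [hz, mul_zero]
    clear hd
    induction hd' using Submodule.span_induction with
    | mem z hz =>
      obtain ⟨c, hc⟩ : W ⟨z, hz⟩ ∣ w := Finset.dvd_prod_of_mem W (Finset.mem_univ _)
      rw [hc, mul_right_comm, hWd ⟨z, hz⟩, zero_mul]
    | zero => exact mul_zero _
    | add a b _ _ ha hb => rw [mul_add, ha, hb, add_zero]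
    | smul a b _ hb => rw [smul_eq_mul, mul_left_comm, hb, mul_zero]

variable {A B' B : Type u} [CommRing A] [CommRing B'] [CommRing B] [Algebra A B'] [Algebra B' B] [Algebra A B]
  [IsScalarTower A B' B] [Module.Finite A B'] [IsNoetherianRing A] [IsNoetherianRing B] [Module.Flat A B]

set_option maxHeartbeats 800000 in
/-- The dualizing module is invertible if it is so on every fibre. -/
theorem invertible_omega_of_fibres
    (hopen : IsOpenImmersion (Spec.map (CommRingCat.ofHom (algebraMap B' B))))
    (H : ∀ (p : Ideal A) [p.IsPrime] (B'₁ B₁ : Type u) [CommRing B'₁] [CommRing B₁] [Algebra B' B'₁]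
      [Algebra p.ResidueField B'₁] [Algebra A B'₁] [IsScalarTower A p.ResidueField B'₁] [IsScalarTower A B' B'₁]
      [Algebra B B₁] [Algebra p.ResidueField B₁] [Algebra A B₁] [IsScalarTower A p.ResidueField B₁]
      [IsScalarTower A B B₁] [Algebra B'₁ B₁] [Algebra B' B₁] [IsScalarTower B' B'₁ B₁] [IsScalarTower B' B B₁]
      [IsScalarTower p.ResidueField B'₁ B₁], Algebra.IsPushout A p.ResidueField B' B'₁ →
      Algebra.IsPushout A p.ResidueField B B₁ → Module.Invertible B₁ (QFDual.omega p.ResidueField B'₁ B₁)) :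
    Module.Invertible B (B ⊗[B'] Disc.Omega A B') := by
  classical
  haveI : IsNoetherianRing B' := IsNoetherianRing.of_finite A B'
  let Om := Disc.Omega A B'
  letI : Module A Om := Module.compHom Om (algebraMap A B')
  haveI : IsScalarTower A B' Om := IsScalarTower.of_algebraMap_smul fun _ _ => rfl
  haveI : Module.Finite A Om := by
    let ev : Om →ₗ[A] (B' →ₗ[A] A) :=
      { toFun := fun l => l.toLinearMap
        map_add' := fun _ _ => rfl
        map_smul' := fun a l => LinearMap.ext fun x => by
          show l.toLinearMap (algebraMap A B' a * x) = a • l.toLinearMap x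
          rw [← Algebra.smul_def, map_smul] }
    haveI : IsNoetherian A (B' →ₗ[A] A) := inferInstance
    exact Module.Finite.of_injective ev Disc.Omega.toLinearMap_injective
  haveI : Module.Finite B' Om := Module.Finite.of_restrictScalars_finite A B' Om
  refine invertible_of_localized fun Q hQ => ?_
  let q := Q.comap (algebraMap B' B)
  let L := Localization.AtPrime Q
  haveI : IsLocalization.AtPrime L q := Disc.OmegaFlat.isLocalization_atPrime hopen Q L
  haveI : Module.Flat A L := Module.Flat.trans A B L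
  have hflat : Module.Flat A (Localization.AtPrime q) := Module.Flat.of_linearEquiv
    ((IsLocalization.algEquiv q.primeCompl (Localization.AtPrime q) L).restrictScalars A).toLinearEquiv
  let ML := L ⊗[B'] Om
  haveI : Module.Flat A ML :=
    Disc.OmegaFlat.flat_tensor_local q Om L fun J w hw => Disc.OmegaFlat.exists_killer q hflat J w hw
  let p := q.comap (algebraMap A B')
  let κ := p.ResidueField
  let B'₁ := p.Fiber B'
  let B₁ := p.Fiber B
  letI : Algebra B' B'₁ := Algebra.TensorProduct.rightAlgebra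
  letI : Algebra B B₁ := Algebra.TensorProduct.rightAlgebra
  let m : B'₁ →ₐ[κ] B₁ := Algebra.TensorProduct.map (AlgHom.id κ κ) (IsScalarTower.toAlgHom A B' B)
  letI : Algebra B'₁ B₁ := m.toRingHom.toAlgebra
  letI : Algebra B' B₁ := ((algebraMap B B₁).comp (algebraMap B' B)).toAlgebra
  haveI : IsScalarTower B' B B₁ := IsScalarTower.of_algebraMap_eq fun _ => rfl
  haveI : IsScalarTower κ B'₁ B₁ := IsScalarTower.of_algebraMap_eq fun x => (m.commutes x).symm
  haveI : IsScalarTower B' B'₁ B₁ := IsScalarTower.of_algebraMap_eq fun x => by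
    show (1 : κ) ⊗ₜ[A] (algebraMap B' B x) = m ((1 : κ) ⊗ₜ[A] x)
    rw [Algebra.TensorProduct.map_tmul]
    rfl
  have hp1 : Algebra.IsPushout A κ B' B'₁ := TensorProduct.isPushout
  have hp2 : Algebra.IsPushout A κ B B₁ := TensorProduct.isPushout
  haveI : IsNoetherianRing κ := inferInstance
  haveI : Module.Invertible B₁ (B₁ ⊗[B'] Om) := by
    haveI := H p B'₁ B₁ hp1 hp2
    exact Module.Invertible.congr
      (LinearEquiv.ofBijective _ (omegaBC_bijective_of_flat (B := B) (B₁ := B₁) hp1 hopen)).symm
  let pL := p.map (algebraMap A L)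
  let Lb := L ⧸ pL
  have hpL : pL ≤ IsLocalRing.maximalIdeal L := by
    rw [Ideal.map_le_iff_le_comap]
    intro x hx
    rw [Ideal.mem_comap, IsScalarTower.algebraMap_apply A B' L]
    exact (IsLocalization.AtPrime.to_map_mem_maximal_iff L q _).mpr hx
  haveI : Nontrivial Lb := Ideal.Quotient.nontrivial_iff.mpr fun h =>
    (IsLocalRing.maximalIdeal.isMaximal L).ne_top (top_le_iff.mp (h ▸ hpL))
  haveI : IsLocalRing Lb := IsLocalRing.of_surjective' (Ideal.Quotient.mk pL) Ideal.Quotient.mk_surjective
  let jκ : κ →ₐ[A] Lb := Ideal.ResidueField.liftₐ p (Algebra.ofId A Lb)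
    (fun x hx => by
      show algebraMap A Lb x = 0
      rw [IsScalarTower.algebraMap_apply A L Lb]
      exact Ideal.Quotient.eq_zero_iff_mem.mpr (Ideal.mem_map_of_mem _ hx))
    (fun x hx => by
      show IsUnit (algebraMap A Lb x)
      rw [IsScalarTower.algebraMap_apply A L Lb, IsScalarTower.algebraMap_apply A B' L]
      exact (IsLocalization.map_units L (⟨algebraMap A B' x, hx⟩ : q.primeCompl)).map _)
  let jB : B →ₐ[A] Lb := IsScalarTower.toAlgHom A B Lb
  let j : B₁ →ₐ[A] Lb := Algebra.TensorProduct.lift jκ jB fun _ _ => Commute.all _ _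
  letI : Algebra B₁ Lb := j.toRingHom.toAlgebra
  haveI : IsScalarTower B' B₁ Lb := IsScalarTower.of_algebraMap_eq fun x => by
    show algebraMap B' Lb x = j ((1 : κ) ⊗ₜ[A] algebraMap B' B x)
    rw [Algebra.TensorProduct.lift_tmul, map_one, one_mul]
    exact IsScalarTower.algebraMap_apply B' B Lb x
  haveI : Module.Invertible Lb (Lb ⊗[B'] Om) :=
    Module.Invertible.congr (AlgebraTensorModule.cancelBaseChange B' B₁ Lb Lb Om)
  obtain ⟨E⟩ := Module.Invertible.free_iff_linearEquiv.mp
    (inferInstance : Module.Free Lb (Lb ⊗[B'] Om))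
  let r : ML →ₗ[L] Lb ⊗[B'] Om := AlgebraTensorModule.rTensor B' Om (Algebra.linearMap L Lb)
  have hr : Function.Surjective r := LinearMap.rTensor_surjective Om
    (g := (Algebra.linearMap L Lb).restrictScalars B') Ideal.Quotient.mk_surjective
  have hrk : ∀ y, r y = 0 → y ∈ pL • (⊤ : Submodule L ML) := by
    intro y hy
    have hex : Function.Exact (pL.subtype.restrictScalars B') ((Algebra.linearMap L Lb).restrictScalars B') := by
      intro z
      exact ⟨fun h => ⟨⟨z, Ideal.Quotient.eq_zero_iff_mem.mp h⟩, rfl⟩,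
        fun ⟨w, hw⟩ => hw ▸ Ideal.Quotient.eq_zero_iff_mem.mpr w.2⟩
    obtain ⟨z, rfl⟩ := (rTensor_exact Om hex Ideal.Quotient.mk_surjective y).mp hy
    clear hy
    induction z using TensorProduct.induction_on with
    | zero => rw [map_zero]; exact zero_mem _
    | add a b ha hb => rw [map_add]; exact add_mem ha hb
    | tmul c l =>
      rw [LinearMap.rTensor_tmul]
      show (c : L) ⊗ₜ[B'] l ∈ _
      rw [show (c : L) ⊗ₜ[B'] l = (c : L) • ((1 : L) ⊗ₜ[B'] l) by rw [TensorProduct.smul_tmul', smul_eq_mul, mul_one]]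
      exact Submodule.smul_mem_smul c.2 Submodule.mem_top
  obtain ⟨θ, hθ⟩ := hr (E.symm 1)
  have hgen : Submodule.span L {θ} = ⊤ := by
    refine top_le_iff.mp ((Submodule.le_of_le_smul_of_le_jacobson_bot (I := pL) Module.Finite.fg_top
      (hpL.trans (IsLocalRing.maximalIdeal_le_jacobson ⊥)) ?_))
    intro y _
    obtain ⟨c, hc⟩ := Ideal.Quotient.mk_surjective (E (r y))
    have h0 : r (y - c • θ) = 0 := by
      rw [map_sub, map_smul, hθ, sub_eq_zero, ← algebraMap_smul Lb c (E.symm 1), ← map_smul, smul_eq_mul, mul_one,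
        show algebraMap L Lb c = E (r y) from hc, LinearEquiv.symm_apply_apply]
    exact Submodule.mem_sup.mpr ⟨c • θ, Submodule.smul_mem _ _ (Submodule.mem_span_singleton_self θ), _,
      hrk _ h0, add_sub_cancel _ _⟩
  have hspan : ∀ y : ML, ∃ c : L, y = c • θ := fun y => by
    obtain ⟨c, hc⟩ := Submodule.mem_span_singleton.mp (hgen.ge (Submodule.mem_top : y ∈ ⊤))
    exact ⟨c, hc.symm⟩
  haveI : IsNoetherianRing L := IsLocalization.isNoetherianRing Q.primeCompl L inferInstance
  have hfree : ∀ x : L, x • θ = 0 → x = 0 := fun x hx =>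
    eq_zero_of_smul_eq_zero p hpL θ hspan (fun x hx => by
      have h1 : E (r (x • θ)) = algebraMap L Lb x := by
        rw [map_smul, hθ, ← algebraMap_smul Lb x (E.symm 1), map_smul, LinearEquiv.apply_symm_apply, smul_eq_mul,
          mul_one]
      rw [hx, map_zero, map_zero] at h1
      exact Ideal.Quotient.eq_zero_iff_mem.mp h1.symm) x hx
  let fB : B ⊗[B'] Om →ₗ[B] ML := AlgebraTensorModule.rTensor B' Om (Algebra.linearMap B L)
  haveI : IsLocalizedModule Q.primeCompl fB := inferInstance
  exact ⟨L, ML, inferInstance, inferInstance, inferInstance, inferInstance, inferInstance, inferInstance,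
    fB, θ, inferInstance, inferInstance, hspan, hfree⟩

end Groth.L14.OmegaInv
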