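import Groth.Agent.L01.Disc.GorFibre

/-! # A nondegenerate functional on a localization of a finite algebra over a field -/

namespace Groth.L14.OmegaInv

open Groth.L01.Disc.GorFibre

set_option linter.style.haveILetI false

universe u

/-- A nondegenerate functional on the principal localization `T` of a finite `κ`-algebra `R` gives
a functional on `R` generating, up to a power of `h`, all functionals. -/
theorem exists_functional_away {κ R T : Type u} [Field κ] [CommRing R] [Algebra κ R] [FiniteDimensional κ R]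
    [CommRing T] [Algebra κ T] [FiniteDimensional κ T] [Algebra R T] [IsScalarTower κ R T] (h : R)
    [IsLocalization.Away h T] {θ : T →ₗ[κ] κ} (hθ : Nondeg θ) :
    ∃ (θ' : R →ₗ[κ] κ) (N : ℕ), (∀ φ : R →ₗ[κ] κ, ∃ b : R, ∀ x, φ (h ^ N * x) = θ' (b * x)) ∧
      ∀ b : R, (∀ x, θ' (b * x) = 0) → h ^ N * b = 0 := by
  classical
  haveI : IsArtinianRing R := IsArtinianRing.of_finite κ R
  obtain ⟨N, y, hy⟩ : ∃ (N : ℕ) (y : R), h ^ N = h ^ (N + 1) * y := by
    obtain ⟨N, y, hy⟩ := IsArtinian.exists_pow_succ_smul_dvd h (1 : R)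
    exact ⟨N, y, by simpa using hy.symm⟩
  have hN : ∀ k, h ^ N = h ^ (N + k) * y ^ k := by
    intro k
    induction k with
    | zero => simp
    | succ k ih =>
      calc h ^ N = h ^ (N + k) * y ^ k := ih
        _ = h ^ N * h ^ k * y ^ k := by rw [pow_add]
        _ = h ^ (N + 1) * y * h ^ k * y ^ k := by rw [← hy]
        _ = _ := by rw [pow_succ h, show N + (k + 1) = (N + k) + 1 from rfl, pow_succ, pow_succ, pow_add]; ring
  let ε := h ^ N * y ^ N
  have hεh : ε * h ^ N = h ^ N := by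
    conv_rhs => rw [hN N, pow_add]
    ring
  let ρ : R →ₐ[κ] T := IsScalarTower.toAlgHom κ R T
  have hu : IsUnit (ρ h ^ N) := (IsLocalization.Away.algebraMap_isUnit (S := T) h).pow N
  have hρε : ρ ε = 1 := by
    have := congrArg ρ hεh
    rw [map_mul, map_pow] at this
    exact hu.mul_right_cancel (this.trans (one_mul _).symm)
  have hker : ∀ x, ρ x = 0 → h ^ N * x = 0 := by
    intro x hx
    obtain ⟨⟨_, k, rfl⟩, hk⟩ := (IsLocalization.map_eq_zero_iff (Submonoid.powers h) T x).mp hx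
    have hk' : h ^ k * x = 0 := hk
    rw [hN k, pow_add, show h ^ N * h ^ k * y ^ k * x = h ^ N * y ^ k * (h ^ k * x) by ring, hk', mul_zero]
  have hsurj : Function.Surjective ρ := by
    intro t
    obtain ⟨k, a, ha⟩ := IsLocalization.Away.surj h t
    refine ⟨ε * y ^ k * a, ?_⟩
    have h1 : ρ (h ^ N) * ρ (h ^ k * y ^ k) = ρ (h ^ N) := by
      rw [← map_mul, ← mul_assoc, ← pow_add, ← hN k]
    rw [map_pow] at h1
    rw [map_mul, map_mul, hρε, one_mul, show ρ a = t * ρ h ^ k from ha.symm]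
    calc ρ (y ^ k) * (t * ρ h ^ k) = t * ρ (h ^ k * y ^ k) := by rw [map_mul, map_pow ρ h]; ring
      _ = t := by rw [hu.mul_left_cancel (h1.trans (mul_one _).symm), mul_one]
  obtain ⟨s, hs⟩ := LinearMap.exists_rightInverse_of_surjective ρ.toLinearMap (LinearMap.range_eq_top.mpr hsurj)
  refine ⟨θ.comp ρ.toLinearMap, N, fun φ => ?_, fun b hb => hker b (hθ _ fun x => ?_)⟩
  · obtain ⟨t, ht⟩ := exists_mul hθ ((φ.comp (LinearMap.mulLeft κ (h ^ N))).comp s)
    obtain ⟨b, rfl⟩ := hsurj t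
    refine ⟨b, fun x => ?_⟩
    show _ = θ (ρ (b * x))
    rw [show ρ (b * x) = ρ b * ρ x from map_mul ρ b x, ← ht]
    show φ (h ^ N * x) = φ (h ^ N * s (ρ x))
    rw [← sub_eq_zero, ← map_sub, ← mul_sub, hker, map_zero]
    rw [map_sub, show ρ (s (ρ x)) = ρ x from LinearMap.congr_fun hs (ρ x), sub_self]
  · obtain ⟨x, rfl⟩ := hsurj x
    rw [← map_mul]
    exact hb x

end Groth.L14.OmegaInv
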