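import Groth.Agent.L01.Disc.OmegaFlat
import Mathlib.RingTheory.LocalRing.ResidueField.Fiber

/-! # Lifting functionals on a fibre to forms on a finite algebra -/

namespace Groth.L14.OmegaInv

open TensorProduct Groth.L01.Disc

set_option linter.style.haveILetI false
set_option backward.isDefEq.respectTransparency.types false

universe u

variable {A B' : Type u} [CommRing A] [IsNoetherianRing A] [CommRing B'] [Algebra A B'] [Module.Finite A B']

/-- The kernel of the map to a fibre. -/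
theorem exists_mul_mem_of_tmul_eq_zero (p : Ideal A) [p.IsPrime] (x : B')
    (hx : (1 : p.ResidueField) ⊗ₜ[A] x = 0) : ∃ a ∉ p, algebraMap A B' a * x ∈ p.map (algebraMap A B') := by
  let Sp := Localization (Algebra.algebraMapSubmonoid B' p.primeCompl)
  let pS := p.map (algebraMap A B')
  letI : Algebra B' (p.Fiber B') := Algebra.TensorProduct.rightAlgebra
  let e := Ideal.Fiber.algEquivAux₁ (S := B') p
  have h0 : algebraMap B' (Sp ⧸ pS.map (algebraMap B' Sp)) x = 0 := by
    rw [← e.commutes x, show algebraMap B' (p.Fiber B') x = 0 from hx, map_zero]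
  have h1 : algebraMap B' Sp x ∈ pS.map (algebraMap B' Sp) := Ideal.Quotient.eq_zero_iff_mem.mp h0
  obtain ⟨_, ⟨a, ha, rfl⟩, hax⟩ :=
    (IsLocalization.algebraMap_mem_map_algebraMap_iff (Algebra.algebraMapSubmonoid B' p.primeCompl) Sp _ _).mp h1
  exact ⟨a, ha, hax⟩

variable (q : Ideal B') [q.IsPrime] (hflat : Module.Flat A (Localization.AtPrime q))

include hflat in
/-- Maps into a finite quotient lift, up to an element outside the prime. -/
theorem exists_lift_mul {r : ℕ} {N : Type u} [AddCommGroup N] [Module A N] [Module.Finite A N]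
    (π0 : (Fin r → A) →ₗ[A] N) (hπ0 : Function.Surjective π0) (f : B' →ₗ[A] N) :
    ∃ s ∉ q, ∃ χ : B' →ₗ[A] (Fin r → A), ∀ x, π0 (χ x) = f (s * x) := by
  obtain ⟨n, π, hπ⟩ := Module.Finite.exists_fin' A B'
  obtain ⟨G, hG⟩ := Module.projective_lifting_property π0 (f.comp π) hπ0
  let h : LinearMap.ker π →ₗ[A] LinearMap.ker π0 :=
    LinearMap.codRestrict _ (G.comp (LinearMap.ker π).subtype) fun k => by
      rw [LinearMap.mem_ker]
      refine (LinearMap.congr_fun hG _).trans ?_
      show f (π k) = 0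
      rw [show π k = 0 from k.2, map_zero]
  obtain ⟨s, S, hS, g, hs, hg⟩ := ExtVanish.vanish π q hπ hflat (LinearMap.ker π0) h
  let G' : (Fin n → A) →ₗ[A] (Fin r → A) := G.comp S - (LinearMap.ker π0).subtype.comp g
  let χ : B' →ₗ[A] (Fin r → A) := (Submodule.liftQ _ G' fun v hv => by
      rw [LinearMap.mem_ker]
      exact sub_eq_zero.mpr (congrArg Subtype.val (hg ⟨v, hv⟩))).comp (π.quotKerEquivOfSurjective hπ).symm.toLinearMap
  refine ⟨s, hs, χ, fun x => ?_⟩
  obtain ⟨v, rfl⟩ := hπ x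
  have hχ : χ (π v) = G' v := by
    simp only [χ, LinearMap.comp_apply, LinearEquiv.coe_coe]
    rw [show (π.quotKerEquivOfSurjective hπ).symm (π v) = Submodule.Quotient.mk v from
      (π.quotKerEquivOfSurjective hπ).symm_apply_eq.mpr rfl]
    rfl
  rw [hχ, show G' v = G (S v) - (g v : Fin r → A) from rfl, map_sub,
    show π0 (g v : Fin r → A) = 0 from (g v).2, sub_zero, ← hS v]
  exact LinearMap.congr_fun hG (S v)

include hflat in
/-- Forms with values in an ideal of the base lie in its multiple, up to an element outside the prime. -/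
theorem exists_smul_mem_smul_top (p : Ideal A) (ψ : Disc.Omega A B') (hψ : ∀ x, ψ.toLinearMap x ∈ p) :
    ∃ s ∉ q, s • ψ ∈ p.map (algebraMap A B') • (⊤ : Submodule B' (Disc.Omega A B')) := by
  classical
  obtain ⟨r, π0, hπ0⟩ := Module.Finite.exists_fin' A p
  obtain ⟨s, hs, χ, hχ⟩ := exists_lift_mul q hflat π0 hπ0 (LinearMap.codRestrict p ψ.toLinearMap hψ)
  refine ⟨s, hs, ?_⟩
  let b : Fin r → A := fun j => (π0 (Pi.single j 1) : A)
  let ev : Disc.Omega A B' →+ (B' →ₗ[A] A) :=
    { toFun := fun l => l.toLinearMap, map_zero' := rfl, map_add' := fun _ _ => rfl }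
  have key : s • ψ = ∑ j, algebraMap A B' (b j) • (⟨(LinearMap.proj j).comp χ⟩ : Disc.Omega A B') := by
    apply Disc.Omega.toLinearMap_injective
    ext x
    show _ = ev (∑ j, algebraMap A B' (b j) • (⟨(LinearMap.proj j).comp χ⟩ : Disc.Omega A B')) x
    rw [map_sum, LinearMap.sum_apply, Disc.Omega.smul_toLinearMap_apply]
    have h1 : ψ.toLinearMap (s * x) = ((π0 (χ x) : p) : A) := (congrArg Subtype.val (hχ x)).symm
    rw [h1]
    conv_lhs => rw [← (Pi.basisFun A (Fin r)).sum_repr (χ x)]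
    simp only [map_sum, map_smul, Submodule.coe_sum, Submodule.coe_smul, Pi.basisFun_repr, Pi.basisFun_apply,
      smul_eq_mul]
    refine Finset.sum_congr rfl fun j _ => ?_
    show _ = (algebraMap A B' (b j) • (⟨(LinearMap.proj j).comp χ⟩ : Disc.Omega A B')).toLinearMap x
    rw [Disc.Omega.smul_toLinearMap_apply, ← Algebra.smul_def, map_smul, smul_eq_mul]
    exact mul_comm _ _
  rw [key]
  exact sum_mem fun j _ => Submodule.smul_mem_smul (Ideal.mem_map_of_mem _ (π0 (Pi.single j 1)).2) Submodule.mem_top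

/-- Restriction of a functional on the fibre. -/
noncomputable def restrictFibre (p : Ideal A) [p.IsPrime] (φ : p.Fiber B' →ₗ[p.ResidueField] p.ResidueField) :
    B' →ₗ[A] p.ResidueField :=
  (φ.restrictScalars A).comp (TensorProduct.mk A p.ResidueField B' 1)

include hflat in
/-- A generating functional on the fibre lifts to a form which generates near the prime. -/
theorem exists_local_generator (p : Ideal A) [p.IsPrime] (hp : p = q.comap (algebraMap A B'))
    (h : B') (hh : h ∉ q) (N : ℕ) (θ' : p.Fiber B' →ₗ[p.ResidueField] p.ResidueField)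
    (ha : ∀ φ : p.Fiber B' →ₗ[p.ResidueField] p.ResidueField, ∃ b : p.Fiber B', ∀ x,
      φ (((1 : p.ResidueField) ⊗ₜ[A] h) ^ N * x) = θ' (b * x))
    (hb : ∀ b : p.Fiber B', (∀ x, θ' (b * x) = 0) → ((1 : p.ResidueField) ⊗ₜ[A] h) ^ N * b = 0) :
    ∃ θ₁ : Disc.Omega A B',
      (∀ l : Disc.Omega A B', ∃ u ∉ q, ∃ c : B',
        u • l - c • θ₁ ∈ p.map (algebraMap A B') • (⊤ : Submodule B' (Disc.Omega A B'))) ∧
      ∀ d : B', (∀ x, θ₁.toLinearMap (d * x) ∈ p) → ∃ u ∉ q, u * d ∈ p.map (algebraMap A B') := by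
  classical
  let κ := p.ResidueField
  have hpq : ∀ a : A, a ∉ p → algebraMap A B' a ∉ q := fun a ha' hq' => ha' (hp ▸ hq')
  let f₀ := restrictFibre p θ'
  -- clear the denominators
  have hden : ∀ z : κ, ∃ a ∉ p, ∃ b : A, algebraMap A κ a * z = algebraMap A κ b := fun z => by
    obtain ⟨x, y, hy, rfl⟩ := IsFractionRing.div_surjective (A := A ⧸ p) z
    obtain ⟨x, rfl⟩ := Ideal.Quotient.mk_surjective x
    obtain ⟨y, rfl⟩ := Ideal.Quotient.mk_surjective y
    have hyp : y ∉ p := fun h' => nonZeroDivisors.ne_zero hy (Ideal.Quotient.eq_zero_iff_mem.mpr h')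
    refine ⟨y, hyp, x, ?_⟩
    rw [show algebraMap A κ x = algebraMap (A ⧸ p) κ (Ideal.Quotient.mk p x) from rfl,
      show algebraMap A κ y = algebraMap (A ⧸ p) κ (Ideal.Quotient.mk p y) from rfl,
      mul_div_cancel₀ _ (fun h0 => hyp (Ideal.Quotient.eq_zero_iff_mem.mp
        ((map_eq_zero_iff _ (IsFractionRing.injective (A ⧸ p) κ)).mp h0)))]
  obtain ⟨m, v, hv⟩ := Module.Finite.exists_fin (R := A) (M := B')
  choose den hdenp num hnum using fun i => hden (f₀ (v i))
  let a := ∏ i, den i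
  have hap : a ∉ p := fun h' => by
    obtain ⟨i, -, hi⟩ := Ideal.IsPrime.prod_mem_iff.mp h'
    exact hdenp i hi
  let ι : (A ⧸ p) →ₗ[A] κ := (IsScalarTower.toAlgHom A (A ⧸ p) κ).toLinearMap
  have hι : Function.Injective ι := IsFractionRing.injective (A ⧸ p) κ
  have hrange : ∀ x, algebraMap A κ a * f₀ x ∈ LinearMap.range ι := by
    intro x
    have hx : x ∈ Submodule.span A (Set.range v) := hv ▸ Submodule.mem_top
    induction hx using Submodule.span_induction with
    | mem x hx =>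
      obtain ⟨i, rfl⟩ := hx
      refine ⟨Ideal.Quotient.mk p ((∏ j ∈ Finset.univ.erase i, den j) * num i), ?_⟩
      show algebraMap (A ⧸ p) κ (Ideal.Quotient.mk p _) = _
      rw [show a = den i * ∏ j ∈ Finset.univ.erase i, den j from (Finset.mul_prod_erase _ _ (Finset.mem_univ i)).symm]
      rw [map_mul (algebraMap A κ) (den i), mul_right_comm, hnum, ← map_mul (algebraMap A κ), mul_comm]
      rfl
    | zero => exact ⟨0, by simp⟩
    | add x y _ _ hx hy => rw [map_add, mul_add]; exact add_mem hx hy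
    | smul c x _ hx =>
      rw [map_smul, mul_smul_comm]
      exact Submodule.smul_mem _ c hx
  let f₁ : B' →ₗ[A] A ⧸ p := (LinearEquiv.ofInjective ι hι).symm.toLinearMap.comp
    (LinearMap.codRestrict _ (a • f₀) fun x => by
      rw [LinearMap.smul_apply, Algebra.smul_def]; exact hrange x)
  have hf₁ : ∀ x, ι (f₁ x) = algebraMap A κ a * f₀ x := fun x => by
    have := congrArg Subtype.val ((LinearEquiv.ofInjective ι hι).apply_symm_apply
      (LinearMap.codRestrict _ (a • f₀) (fun x => by rw [LinearMap.smul_apply, Algebra.smul_def]; exact hrange x) x))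
    rw [← Algebra.smul_def]
    exact this
  let π0 : (Fin 1 → A) →ₗ[A] A ⧸ p := (Ideal.Quotient.mkₐ A p).toLinearMap.comp (LinearMap.proj 0)
  obtain ⟨s, hs, χ, hχ⟩ := exists_lift_mul q hflat π0 (fun y => by
    obtain ⟨y, rfl⟩ := Ideal.Quotient.mk_surjective y
    exact ⟨fun _ => y, rfl⟩) f₁
  let θ₁ : Disc.Omega A B' := ⟨(LinearMap.proj 0).comp χ⟩
  have hθ₁ : ∀ x, algebraMap A κ (θ₁.toLinearMap x) = algebraMap A κ a * θ' ((1 : κ) ⊗ₜ[A] (s * x)) := fun x =>
    (congrArg ι (hχ x)).trans (hf₁ (s * x))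
  have hmem : ∀ y : A, algebraMap A κ y = 0 ↔ y ∈ p := fun y => Ideal.algebraMap_residueField_eq_zero
  have hsm : ∀ c x : B', ((1 : κ) ⊗ₜ[A] c) * ((1 : κ) ⊗ₜ[A] x) = (1 : κ) ⊗ₜ[A] (c * x) := fun c x => by
    rw [Algebra.TensorProduct.tmul_mul_tmul, one_mul]
  refine ⟨θ₁, fun l => ?_, fun d hd => ?_⟩
  · let φ : p.Fiber B' →ₗ[κ] κ := ((Algebra.linearMap A κ).comp l.toLinearMap).liftBaseChange κ
    have hφ : ∀ x : B', φ ((1 : κ) ⊗ₜ[A] x) = algebraMap A κ (l.toLinearMap x) := fun x => by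
      simp [φ]
    obtain ⟨b, hb'⟩ := ha φ
    obtain ⟨a', ha', c, hc⟩ := Ideal.Fiber.exists_smul_eq_one_tmul p b
    have hval : ∀ x, ((algebraMap A B' (a * a') * h ^ N * s) • l - c • θ₁).toLinearMap x ∈ p := by
      intro x
      rw [← hmem]
      have e0 : ((algebraMap A B' (a * a') * h ^ N * s) • l - c • θ₁).toLinearMap x =
          (a * a') * l.toLinearMap (h ^ N * (s * x)) - θ₁.toLinearMap (c * x) := by
        show ((algebraMap A B' (a * a') * h ^ N * s) • l).toLinearMap x - (c • θ₁).toLinearMap x = _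
        rw [Disc.Omega.smul_toLinearMap_apply,
          Disc.Omega.smul_toLinearMap_apply, mul_assoc (algebraMap A B' (a * a')) _ s, mul_assoc, ← Algebra.smul_def,
          map_smul, smul_eq_mul, mul_assoc (h ^ N)]
      rw [e0, map_sub, map_mul, hθ₁, ← hφ, sub_eq_zero]
      have e1 : (1 : κ) ⊗ₜ[A] (s * (c * x)) = (a' • b) * ((1 : κ) ⊗ₜ[A] (s * x)) := by
        rw [hc, hsm, mul_left_comm]
      rw [e1, smul_mul_assoc, map_mul (algebraMap A κ) a, mul_assoc, LinearMap.map_smul_of_tower, ← hb',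
        show (1 : κ) ⊗ₜ[A] (h ^ N * (s * x)) = ((1 : κ) ⊗ₜ[A] h) ^ N * ((1 : κ) ⊗ₜ[A] (s * x)) by
          rw [Algebra.TensorProduct.tmul_pow, one_pow, hsm], Algebra.smul_def]
    obtain ⟨t, ht, htmem⟩ := exists_smul_mem_smul_top q hflat p _ hval
    refine ⟨t * (algebraMap A B' (a * a') * h ^ N * s), ?_, t * c, ?_⟩
    · refine Ideal.IsPrime.mul_notMem ‹_› ht (Ideal.IsPrime.mul_notMem ‹_› (Ideal.IsPrime.mul_notMem ‹_›
        (hpq _ (Ideal.IsPrime.mul_notMem ‹_› hap ha')) fun h' => hh (Ideal.IsPrime.mem_of_pow_mem ‹_› _ h')) hs)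
    · rwa [mul_smul, mul_smul t c, ← smul_sub]
  · have h1 : ∀ z : p.Fiber B', θ' (((1 : κ) ⊗ₜ[A] (s * d)) * z) = 0 := by
      intro z
      induction z using TensorProduct.induction_on with
      | zero => simp
      | add x y hx hy => rw [mul_add, map_add, hx, hy, add_zero]
      | tmul k x =>
        rw [Algebra.TensorProduct.tmul_mul_tmul, one_mul,
          show k ⊗ₜ[A] (s * d * x) = k • ((1 : κ) ⊗ₜ[A] (s * d * x)) by rw [TensorProduct.smul_tmul', smul_eq_mul, mul_one],
          map_smul]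
        have := hθ₁ (d * x)
        rw [(hmem _).mpr (hd x), ← mul_assoc] at this
        have ha0 : algebraMap A κ a ≠ 0 := fun h0 => hap ((hmem a).mp h0)
        rw [show θ' ((1 : κ) ⊗ₜ[A] (s * d * x)) = 0 from (mul_eq_zero.mp this.symm).resolve_left ha0, smul_zero]
    have h2 := hb _ h1
    rw [Algebra.TensorProduct.tmul_pow, one_pow, hsm] at h2
    obtain ⟨a'', ha'', hmem''⟩ := exists_mul_mem_of_tmul_eq_zero p _ h2
    refine ⟨algebraMap A B' a'' * (h ^ N * s), Ideal.IsPrime.mul_notMem ‹_› (hpq _ ha'')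
      (Ideal.IsPrime.mul_notMem ‹_› (fun h' => hh (Ideal.IsPrime.mem_of_pow_mem ‹_› _ h')) hs), ?_⟩
    rw [mul_assoc, mul_assoc]
    exact hmem''

end Groth.L14.OmegaInv
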