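import Groth.Agent.L14.OmegaInv.Local
import Groth.Agent.L14.OmegaInv.Field
import Groth.Agent.L14.OmegaInv.Lift
import Groth.Agent.L01.Disc.Syntomic
import Groth.Agent.L01.Wiebe.Tate
import Groth.Prelude.Def_QFDual

/-! # The dualizing module of a quasi-finite syntomic map is invertible -/

namespace Groth.L14.OmegaInv

open TensorProduct PrimeSpectrum AlgebraicGeometry Groth.L01 Groth.L01.Disc.GorFibre
open Groth.L07.CILocus Groth.L07.SyntAlg

set_option linter.style.haveILetI false
set_option maxSynthPendingDepth 3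
set_option backward.isDefEq.respectTransparency.types false

universe u

/-- A fibre of a quasi-finite square complete intersection has a nondegenerate functional. -/
theorem exists_nondeg_fibre {A : Type u} [CommRing A] {n : ℕ} (F : Fin n → MvPolynomial (Fin n) A)
    [Algebra.QuasiFinite A (Wiebe.Bq F)] (p : PrimeSpectrum A) :
    ∃ θ : p.asIdeal.Fiber (Wiebe.Bq F) →ₗ[p.asIdeal.ResidueField] p.asIdeal.ResidueField, Nondeg θ := by
  let κ := p.asIdeal.ResidueField
  let I := Ideal.span (Set.range F)
  let Fb : Fin n → MvPolynomial (Fin n) κ := θ p ∘ F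
  have hk : RingHom.ker (φ I p).toRingHom = Ideal.span (Set.range Fb) := by
    rw [ker_φ, Ideal.map_span, ← Set.range_comp]
  let e : Wiebe.Bq Fb ≃ₐ[κ] p.asIdeal.Fiber (Wiebe.Bq F) :=
    (Ideal.quotientEquivAlgOfEq κ hk.symm).trans
      (Ideal.quotientKerAlgEquivOfSurjective (f := φ I p) (φ_surjective I p))
  haveI : Algebra.QuasiFinite κ (Wiebe.Bq Fb) :=
    Algebra.QuasiFinite.of_surjective_algHom e.symm.toAlgHom e.symm.surjective
  haveI : Module.Finite κ (Wiebe.Bq Fb) := Module.Finite.equiv e.symm.toLinearEquiv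
  obtain ⟨E, -⟩ := Wiebe.exists_equiv Fb
  refine ⟨(E 1).toLinearMap.comp e.symm.toLinearMap, fun r hr => ?_⟩
  have h0 : E (e.symm r) = 0 := by
    rw [show E (e.symm r) = e.symm r • E 1 by rw [← map_smul, smul_eq_mul, mul_one]]
    apply Disc.Omega.toLinearMap_injective
    refine LinearMap.ext fun x => ?_
    show (E 1).toLinearMap (e.symm r * x) = 0
    have := hr (e x)
    simp only [LinearMap.comp_apply, AlgEquiv.toLinearMap_apply, map_mul, AlgEquiv.symm_apply_apply] at this
    exact this
  rw [map_eq_zero_iff _ E.injective, map_eq_zero_iff _ e.symm.injective] at h0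
  exact h0

/-- Nondegeneracy along an isomorphism. -/
theorem nondeg_comp {k R R' : Type u} [Field k] [CommRing R] [Algebra k R] [CommRing R'] [Algebra k R']
    (e : R' ≃ₐ[k] R) {θ : R →ₗ[k] k} (h : Nondeg θ) : Nondeg (θ.comp e.toLinearMap) := by
  intro r hr
  refine (map_eq_zero_iff _ e.injective).mp (h _ fun x => ?_)
  have := hr (e.symm x)
  simp only [LinearMap.comp_apply, AlgEquiv.toLinearMap_apply, map_mul, AlgEquiv.apply_symm_apply] at this
  exact this

/-- A generator of a flat module whose annihilator lies in a multiple of an ideal of the base is free. -/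
theorem eq_zero_of_smul_eq_zero {A L M : Type u} [CommRing A] [IsNoetherianRing A] [CommRing L] [Algebra A L]
    [IsLocalRing L] [IsNoetherianRing L] [AddCommGroup M] [Module L M] [Module A M] [IsScalarTower A L M]
    [Module.Flat A M] (p : Ideal A) (hp : p.map (algebraMap A L) ≤ IsLocalRing.maximalIdeal L) (θ : M)
    (hspan : ∀ y : M, ∃ c : L, y = c • θ) (hK : ∀ x : L, x • θ = 0 → x ∈ p.map (algebraMap A L))
    (x : L) (hx : x • θ = 0) : x = 0 := by
  classical
  let K : Ideal L := LinearMap.ker (LinearMap.toSpanSingleton L M θ)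
  suffices h : K = ⊥ by
    have : x ∈ K := hx
    rwa [h, Ideal.mem_bot] at this
  refine Submodule.eq_bot_of_le_smul_of_le_jacobson_bot (p.map (algebraMap A L)) K (IsNoetherian.noetherian _)
    ?_ (hp.trans (IsLocalRing.maximalIdeal_le_jacobson ⊥))
  intro x hx
  obtain ⟨r, a, ha⟩ := Module.Finite.exists_fin (R := A) (M := p)
  have hgens : p.map (algebraMap A L) = Ideal.span (Set.range fun j => algebraMap A L (a j : A)) := by
    have hp' : p = Ideal.span (Set.range fun j => ((a j : p) : A)) := by
      have := congrArg (Submodule.map p.subtype) ha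
      rw [Submodule.map_span, Submodule.map_top, Submodule.range_subtype, ← Set.range_comp] at this
      exact this.symm
    conv_lhs => rw [hp']
    rw [Ideal.map_span, ← Set.range_comp]
    rfl
  obtain ⟨l, hl⟩ := Ideal.mem_span_range_iff_exists_fun.mp (hgens ▸ hK x hx)
  have hrel : ∑ j, (a j : A) • (l j • θ) = 0 := by
    refine Eq.trans ?_ (show x • θ = 0 from hx)
    rw [← hl, Finset.sum_smul]
    exact Finset.sum_congr rfl fun j _ => by rw [mul_smul, algebraMap_smul, smul_comm]
  obtain ⟨s, c, y, hy, hc⟩ := Module.Flat.isTrivialRelation_of_sum_smul_eq_zero hrel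
  choose l' hl' using fun i => hspan (y i)
  have hmemK : ∀ j, l j - ∑ i, algebraMap A L (c j i) * l' i ∈ K := by
    intro j
    show (l j - ∑ i, algebraMap A L (c j i) * l' i) • θ = 0
    rw [sub_smul, show l j • θ = _ from hy j, Finset.sum_smul, sub_eq_zero]
    exact Finset.sum_congr rfl fun i _ => by rw [mul_smul, algebraMap_smul, hl']
  have hxeq : x = ∑ j, algebraMap A L (a j : A) * (l j - ∑ i, algebraMap A L (c j i) * l' i) := by
    have h0 : ∑ j, algebraMap A L (a j : A) * ∑ i, algebraMap A L (c j i) * l' i = 0 := by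
      simp only [Finset.mul_sum, ← mul_assoc, ← map_mul]
      rw [Finset.sum_comm]
      refine Finset.sum_eq_zero fun i _ => ?_
      rw [← Finset.sum_mul, ← map_sum, hc i, map_zero, zero_mul]
    simp only [mul_sub, Finset.sum_sub_distrib, h0, sub_zero]
    rw [← hl]
    exact Finset.sum_congr rfl fun j _ => mul_comm _ _
  rw [hxeq]
  exact sum_mem fun j _ => Submodule.smul_mem_smul (Ideal.mem_map_of_mem _ (a j).2) (hmemK j)

variable {A B' B : Type u} [CommRing A] [CommRing B'] [CommRing B] [Algebra A B'] [Algebra B' B] [Algebra A B]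
  [IsScalarTower A B' B] [Module.Finite A B']

/-- Near a prime the finite algebra is a square complete intersection. -/
theorem exists_square_nhd (hopen : IsOpenImmersion (Spec.map (CommRingCat.ofHom (algebraMap B' B))))
    (hs : Synt.IsSyntomic A B) (Q : Ideal B) [Q.IsPrime] :
    ∃ h : B', h ∉ Q.comap (algebraMap B' B) ∧ ∃ (n : ℕ) (F : Fin n → MvPolynomial (Fin n) A),
      Algebra.QuasiFinite A (Wiebe.Bq F) ∧ Nonempty (Localization.Away h ≃ₐ[A] Wiebe.Bq F) := by
  haveI := hs.1
  haveI := hs.2.1
  obtain ⟨f, hf, hbij⟩ := Disc.OpenComposite.exists_away_bijective (algebraMap B' B) hopen ⟨Q, inferInstance⟩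
  let C := Localization.Away f
  let Bf := Localization.Away (algebraMap B' B f)
  haveI : Algebra.FinitePresentation B Bf := IsLocalization.Away.finitePresentation (algebraMap B' B f)
  haveI : Algebra.FinitePresentation A Bf := Algebra.FinitePresentation.trans A B Bf
  haveI : Module.Flat A Bf := Module.Flat.trans A B Bf
  have hsBf : Synt.IsSyntomic A Bf := isSyntomic_iff.mpr ⟨inferInstance, fun P =>
    (ciAt_away _ P).mpr ((isSyntomic_iff.mp hs).2 _)⟩
  let e : C ≃ₐ[A] Bf := AlgEquiv.ofRingEquiv (f := RingEquiv.ofBijective _ hbij) fun x => by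
    show Localization.awayMap (algebraMap B' B) f (algebraMap A C x) = _
    rw [IsScalarTower.algebraMap_apply A B' C, Localization.awayMap, IsLocalization.Away.map, IsLocalization.map_eq,
      ← IsScalarTower.algebraMap_apply A B' B, ← IsScalarTower.algebraMap_apply A B Bf]
  have hsC : Synt.IsSyntomic A C := isSyntomic_of_algEquiv e.symm hsBf
  haveI := hsC.1
  haveI := hsC.2.1
  haveI : Algebra.QuasiFinite A C := inferInstance
  obtain ⟨P, hP⟩ : (⟨Q.comap (algebraMap B' B), inferInstance⟩ : PrimeSpectrum B') ∈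
      Set.range (PrimeSpectrum.comap (algebraMap B' C)) := by
    rw [PrimeSpectrum.localization_away_comap_range C f]; exact hf
  haveI : Module.Flat A (Localization.AtPrime P.asIdeal) := Module.Flat.trans A C _
  obtain ⟨g, hg, m, c, F, hF, ⟨eg⟩⟩ := exists_relGCI_nhd' P ((isSyntomic_iff.mp hsC).2 P)
  let D := Synt.RelGCIRing A m c F
  haveI : Algebra.QuasiFinite A (Localization.Away g) := inferInstance
  haveI hq : Algebra.QuasiFinite A D := Algebra.QuasiFinite.of_surjective_algHom eg.toAlgHom eg.surjective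
  obtain ⟨Pg, -⟩ : P ∈ Set.range (PrimeSpectrum.comap (algebraMap C (Localization.Away g))) := by
    rw [PrimeSpectrum.localization_away_comap_range (Localization.Away g) g]; exact hg
  let P₀ := PrimeSpectrum.comap eg.symm.toRingEquiv.toRingHom Pg
  let p : PrimeSpectrum A := PrimeSpectrum.comap (algebraMap A D) P₀
  haveI hnt : Nontrivial (p.asIdeal.Fiber D) :=
    PrimeSpectrum.nonempty_iff_nontrivial.mp ⟨(PrimeSpectrum.preimageEquivFiber A D p) ⟨P₀, rfl⟩⟩
  obtain ⟨hcm, hdim⟩ := hF p hnt
  rw [ringKrullDimZero_iff_ringKrullDim_eq_zero.mp inferInstance] at hdim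
  have hmc : m - c = 0 := by exact_mod_cast hdim.symm
  obtain rfl : c = m := le_antisymm hcm (Nat.sub_eq_zero_iff_le.mp hmc)
  obtain ⟨g₂, hg₂, ⟨e₂⟩⟩ := exists_away_away (R := A) f P g hg
  refine ⟨g₂, ?_, c, F, hq, ⟨e₂.trans eg⟩⟩
  intro hmem
  exact hg₂ (show g₂ ∈ P.asIdeal.comap (algebraMap B' C) from
    (congrArg PrimeSpectrum.asIdeal hP).ge hmem)

/-- The dualizing module of a quasi-finite syntomic map is invertible. -/
theorem invertible_omega [IsNoetherianRing A]
    (hopen : IsOpenImmersion (Spec.map (CommRingCat.ofHom (algebraMap B' B))))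
    (hs : Synt.IsSyntomic A B) : Module.Invertible B (B ⊗[B'] Disc.Omega A B') := by
  classical
  haveI := hs.1
  haveI := hs.2.1
  haveI : IsNoetherianRing B := Algebra.FiniteType.isNoetherianRing A B
  haveI : IsNoetherianRing B' := IsNoetherianRing.of_finite A B'
  let Om := Disc.Omega A B'
  letI : Module A Om := Module.compHom Om (algebraMap A B')
  haveI : IsScalarTower A B' Om := IsScalarTower.of_algebraMap_smul fun _ _ => rfl
  haveI : Module.Finite A Om := by
    let ev : Om →ₗ[A] (B' →ₗ[A] A) :=
      { toFun := fun l => l.toLinearMap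
        map_add' := fun _ _ => rfl
        map_smul' := fun a l => LinearMap.ext fun x => by
          show l.toLinearMap (algebraMap A B' a * x) = a • l.toLinearMap x
          rw [← Algebra.smul_def, map_smul] }
    haveI : IsNoetherian A (B' →ₗ[A] A) := inferInstance
    exact Module.Finite.of_injective ev Disc.Omega.toLinearMap_injective
  haveI : Module.Finite B' Om := Module.Finite.of_restrictScalars_finite A B' Om
  refine invertible_of_local fun Q hQ => ?_
  let q := Q.comap (algebraMap B' B)
  let L := Localization.AtPrime Q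
  haveI : IsLocalization.AtPrime L q := Disc.OmegaFlat.isLocalization_atPrime hopen Q L
  haveI : Module.Flat B L := IsLocalization.flat L Q.primeCompl
  haveI : Module.Flat A L := Module.Flat.trans A B L
  have hflat : Module.Flat A (Localization.AtPrime q) := Module.Flat.of_linearEquiv
    ((IsLocalization.algEquiv q.primeCompl (Localization.AtPrime q) L).restrictScalars A).toLinearEquiv
  let p := q.comap (algebraMap A B')
  let κ := p.ResidueField
  let I := p.map (algebraMap A B')
  have hIq : I ≤ q := Ideal.map_comap_le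
  -- the functional on the fibre
  obtain ⟨h, hh, n, F, hqF, ⟨eh⟩⟩ := exists_square_nhd hopen hs Q
  obtain ⟨θ₀, hθ₀⟩ := exists_nondeg_fibre F ⟨p, inferInstance⟩
  let T := p.Fiber (Localization.Away h)
  let eT : T ≃ₐ[κ] p.Fiber (Wiebe.Bq F) := Algebra.TensorProduct.congr (AlgEquiv.refl (R := κ) (A₁ := κ)) eh
  haveI : Algebra.QuasiFinite A (Localization.Away h) :=
    Algebra.QuasiFinite.of_surjective_algHom eh.symm.toAlgHom eh.symm.surjective
  haveI : Module.Finite κ T := inferInstance
  haveI : Module.Finite κ (p.Fiber B') := inferInstance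
  let m : p.Fiber B' →ₐ[κ] T :=
    Algebra.TensorProduct.map (AlgHom.id κ _) (IsScalarTower.toAlgHom A B' (Localization.Away h))
  letI : Algebra (p.Fiber B') T := m.toRingHom.toAlgebra
  haveI : IsScalarTower κ (p.Fiber B') T := IsScalarTower.of_algebraMap_eq fun x => (m.commutes x).symm
  haveI : IsLocalization.Away ((1 : κ) ⊗ₜ[A] h) T := by
    have hloc : IsLocalization ((Submonoid.powers h).map
        (Algebra.TensorProduct.includeRight (R := A) (A := κ) (B := B'))) T :=
      IsLocalization.tensorProduct_tensorProduct_right A κ (Submonoid.powers h) (Localization.Away h)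
        (RingHom.ext fun a => by
          show m ((1 : κ) ⊗ₜ[A] a) = _
          rw [Algebra.TensorProduct.map_tmul]
          rfl)
    rw [Submonoid.map_powers] at hloc
    exact hloc
  obtain ⟨θ', N, ha, hb⟩ := exists_functional_away (κ := κ) ((1 : κ) ⊗ₜ[A] h) (nondeg_comp eT hθ₀)
  obtain ⟨θ₁, hgen, hann⟩ := exists_local_generator q hflat p rfl h hh N θ' ha hb
  -- cyclicity
  obtain ⟨k, v, hv⟩ := Module.Finite.exists_fin (R := B') (M := Om)
  choose U hU cU hcU using fun i => hgen (v i)
  let W := Om ⧸ Submodule.span B' {θ₁}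
  let endo : W →ₗ[B'] W := (∏ i, U i) • LinearMap.id
  have hrange : LinearMap.range endo ≤ I • (⊤ : Submodule B' W) := by
    rintro _ ⟨w, rfl⟩
    obtain ⟨l, rfl⟩ := Submodule.Quotient.mk_surjective _ w
    show (∏ i, U i) • Submodule.Quotient.mk l ∈ _
    have hl : l ∈ Submodule.span B' (Set.range v) := hv ▸ Submodule.mem_top
    induction hl using Submodule.span_induction with
    | mem l hl =>
      obtain ⟨i, rfl⟩ := hl
      rw [← Finset.prod_erase_mul _ _ (Finset.mem_univ i), mul_smul]
      refine Submodule.smul_mem _ _ ?_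
      have h1 := Submodule.mem_map_of_mem (f := (Submodule.span B' {θ₁}).mkQ) (hcU i)
      rw [Submodule.map_smul'', Submodule.map_top, Submodule.range_mkQ, map_sub, map_smul, map_smul,
        show (Submodule.span B' {θ₁}).mkQ θ₁ = 0 from
          (Submodule.Quotient.mk_eq_zero _).mpr (Submodule.mem_span_singleton_self θ₁), smul_zero, sub_zero] at h1
      exact h1
    | zero => rw [Submodule.Quotient.mk_zero, smul_zero]; exact zero_mem _
    | add a b _ _ ha hb => rw [Submodule.Quotient.mk_add, smul_add]; exact add_mem ha hb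
    | smul a b _ hb => rw [Submodule.Quotient.mk_smul, smul_comm]; exact Submodule.smul_mem _ _ hb
  obtain ⟨P, hPm, -, hPc, hP0⟩ :=
    LinearMap.exists_monic_and_natDegree_eq_and_coeff_mem_pow_and_aeval_eq_zero B' endo I hrange
  let g₀ : B' := P.eval (∏ i, U i)
  have hg₀ : g₀ ∉ q := by
    intro hmem
    have hU' : (∏ i, U i) ∉ q := fun h' => by
      obtain ⟨i, -, hi⟩ := Ideal.IsPrime.prod_mem_iff.mp h'
      exact hU i hi
    refine hU' (Ideal.IsPrime.mem_of_pow_mem inferInstance P.natDegree ?_)
    rw [show g₀ = ∑ j ∈ Finset.range (P.natDegree + 1), P.coeff j * (∏ i, U i) ^ j from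
      Polynomial.eval_eq_sum_range _, Finset.sum_range_succ, show P.coeff P.natDegree = 1 from hPm, one_mul] at hmem
    refine (Submodule.add_mem_iff_right _ (sum_mem fun j hj => ?_)).mp hmem
    refine hIq (Ideal.mul_mem_right _ _ (Ideal.pow_le_self ?_ (hPc j)))
    have := Finset.mem_range.mp hj
    omega
  have hcyc : ∀ l : Om, ∃ c : B', g₀ • l = c • θ₁ := by
    intro l
    have h1 : g₀ • Submodule.Quotient.mk (p := Submodule.span B' {θ₁}) l = 0 := by
      have h2 : Polynomial.aeval endo P = g₀ • (LinearMap.id : W →ₗ[B'] W) := by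
        rw [show endo = algebraMap B' (Module.End B' W) (∏ i, U i) from LinearMap.ext fun w => rfl,
          Polynomial.aeval_algebraMap_apply, Algebra.algebraMap_eq_smul_one]
        rfl
      have := LinearMap.congr_fun (h2.symm.trans hP0) (Submodule.Quotient.mk l)
      exact this
    rw [← Submodule.Quotient.mk_smul, Submodule.Quotient.mk_eq_zero, Submodule.mem_span_singleton] at h1
    obtain ⟨c, hc⟩ := h1
    exact ⟨c, hc.symm⟩
  -- torsion-freeness of the generator in the local ring
  let ML := L ⊗[B'] Om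
  haveI : Module.Flat A ML :=
    Disc.OmegaFlat.flat_tensor_local q Om L fun J w hw => Disc.OmegaFlat.exists_killer q hflat J w hw
  let θL : ML := (1 : L) ⊗ₜ[B'] θ₁
  have hspanL : ∀ y : ML, ∃ c : L, y = c • θL := by
    intro y
    induction y using TensorProduct.induction_on with
    | zero => exact ⟨0, (zero_smul _ _).symm⟩
    | add a b ha hb =>
      obtain ⟨ca, rfl⟩ := ha
      obtain ⟨cb, rfl⟩ := hb
      exact ⟨ca + cb, (add_smul _ _ _).symm⟩
    | tmul x l =>
      obtain ⟨c, hc⟩ := hcyc l
      obtain ⟨w, hw⟩ := (IsLocalization.map_units L (⟨g₀, hg₀⟩ : q.primeCompl)).exists_left_inv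
      refine ⟨x * w * algebraMap B' L c, ?_⟩
      have e2 : (x * w * algebraMap B' L c) • θL = (x * w) ⊗ₜ[B'] (c • θ₁) := by
        rw [TensorProduct.smul_tmul', smul_eq_mul, mul_one, ← TensorProduct.smul_tmul, Algebra.smul_def, mul_comm _ (x * w)]
      rw [e2, ← hc, ← TensorProduct.smul_tmul, Algebra.smul_def, mul_comm _ (x * w), mul_assoc]
      show x ⊗ₜ[B'] l = (x * (w * algebraMap B' L g₀)) ⊗ₜ[B'] l
      rw [hw, mul_one]
  let f₀ : Om →ₗ[B'] ML := TensorProduct.mk B' L Om 1
  haveI : IsLocalizedModule q.primeCompl f₀ :=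
    (isLocalizedModule_iff_isBaseChange q.primeCompl L f₀).mpr (TensorProduct.isBaseChange B' Om L)
  haveI : IsNoetherianRing L := IsLocalization.isNoetherianRing Q.primeCompl L inferInstance
  have hK0 : ∀ x : L, x • θL = 0 → x = 0 := by
    refine eq_zero_of_smul_eq_zero p ?_ θL hspanL (fun x hx => ?_)
    · rw [Ideal.map_le_iff_le_comap]
      intro x hx
      rw [Ideal.mem_comap, IsScalarTower.algebraMap_apply A B' L]
      exact (IsLocalization.AtPrime.to_map_mem_maximal_iff L q _).mpr hx
    · obtain ⟨d, u, rfl⟩ := IsLocalization.exists_mk'_eq q.primeCompl x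
      have hd : algebraMap B' L d • θL = 0 := by
        rw [← IsLocalization.mk'_spec L d u, mul_comm, mul_smul,
          show IsLocalization.mk' L d u • θL = 0 from hx, smul_zero]
      have hd' : f₀ (d • θ₁) = 0 := by
        rw [map_smul, ← algebraMap_smul L d]
        exact hd
      obtain ⟨⟨t, ht⟩, htd⟩ := (IsLocalizedModule.eq_zero_iff q.primeCompl f₀).mp hd'
      have hval : ∀ y, θ₁.toLinearMap ((t * d) * y) ∈ p := fun y => by
        have h2 : (t * d) • θ₁ = 0 := by rw [mul_smul]; exact htd
        have := LinearMap.congr_fun (congrArg Disc.Omega.toLinearMap h2) y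
        rw [Disc.Omega.smul_toLinearMap_apply, Disc.Omega.zero_toLinearMap, LinearMap.zero_apply] at this
        rw [this]
        exact zero_mem _
      obtain ⟨t', ht', htd'⟩ := hann _ hval
      have hxI : IsLocalization.mk' L d u ∈ I.map (algebraMap B' L) :=
        (IsLocalization.mk'_mem_map_algebraMap_iff q.primeCompl L _ _ _).mpr
          ⟨t' * t, q.primeCompl.mul_mem ht' ht, by rwa [mul_assoc]⟩
      rw [Ideal.map_map, ← IsScalarTower.algebraMap_eq] at hxI
      exact hxI
  -- data at the point
  let θM : B ⊗[B'] Om := (1 : B) ⊗ₜ[B'] θ₁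
  let Ann : Ideal B := LinearMap.ker (LinearMap.toSpanSingleton B (B ⊗[B'] Om) θM)
  let r : B ⊗[B'] Om →ₗ[B'] ML := LinearMap.rTensor Om (IsScalarTower.toAlgHom B' B L).toLinearMap
  have hkill : ∀ d ∈ Ann, algebraMap B L d = 0 := by
    intro d hd
    have h1 : algebraMap B L d • θL = 0 := by
      have := congrArg r (show d • θM = 0 from hd)
      rw [map_zero, TensorProduct.smul_tmul', smul_eq_mul, mul_one] at this
      rw [TensorProduct.smul_tmul', smul_eq_mul, mul_one]
      exact this
    exact hK0 _ h1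
  obtain ⟨t, ht⟩ := (IsNoetherian.noetherian Ann : Ann.FG)
  have htk : ∀ d : t, ∃ u : Q.primeCompl, (u : B) * d = 0 := fun d =>
    (IsLocalization.map_eq_zero_iff Q.primeCompl L _).mp (hkill _ (ht ▸ Submodule.subset_span d.2))
  choose w hw using htk
  let w₀ : B := ∏ d : t, (w d : B)
  have hw₀ : w₀ ∈ Q.primeCompl := prod_mem fun d _ => (w d).2
  refine ⟨algebraMap B' B g₀ * w₀, θM,
    fun h' => (hQ.isPrime.mem_or_mem h').elim hg₀ hw₀, fun l => ?_, fun d hd => ?_⟩
  · induction l using TensorProduct.induction_on with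
    | zero => exact ⟨0, by rw [smul_zero, zero_smul]⟩
    | add a b ha hb =>
      obtain ⟨ca, hca⟩ := ha
      obtain ⟨cb, hcb⟩ := hb
      exact ⟨ca + cb, by rw [smul_add, hca, hcb, add_smul]⟩
    | tmul x l =>
      obtain ⟨c, hc⟩ := hcyc l
      refine ⟨w₀ * x * algebraMap B' B c, ?_⟩
      have e2 : (w₀ * x * algebraMap B' B c) • θM = (w₀ * x) ⊗ₜ[B'] (c • θ₁) := by
        rw [TensorProduct.smul_tmul', smul_eq_mul, mul_one, ← TensorProduct.smul_tmul, Algebra.smul_def,
          mul_comm _ (w₀ * x)]
      rw [e2, ← hc, ← TensorProduct.smul_tmul, Algebra.smul_def, TensorProduct.smul_tmul', smul_eq_mul, mul_assoc]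
  · have hdm : d ∈ Submodule.span B (t : Set B) := ht ▸ (show d ∈ Ann from hd)
    rw [mul_assoc]
    suffices hz : w₀ * d = 0 by rw [hz, mul_zero]
    induction hdm using Submodule.span_induction with
    | mem z hz =>
      obtain ⟨v', hv'⟩ : (w ⟨z, hz⟩ : B) ∣ w₀ := Finset.dvd_prod_of_mem (fun d => (w d : B)) (Finset.mem_univ _)
      rw [hv', mul_right_comm, hw ⟨z, hz⟩, zero_mul]
    | zero => exact mul_zero _
    | add a b _ _ iha ihb =>
      rw [mul_add]
      have ha' : a ∈ Ann := ht ▸ ‹a ∈ Submodule.span B (t : Set B)›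
      have hb' : b ∈ Ann := ht ▸ ‹b ∈ Submodule.span B (t : Set B)›
      rw [iha ha', ihb hb', add_zero]
    | smul a b hb ihb =>
      rw [smul_eq_mul, mul_left_comm, ihb (show b ∈ Ann from ht ▸ hb), mul_zero]

end Groth.L14.OmegaInv
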